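import Cfsg.Agent.Lib.Helper28.TCCheck

set_option autoImplicit false

namespace Cfsg.Agent.Lib.Helper56.L37Q

open Cfsg.Agent.Lib.Helper28.TC

/-- the generators -/
inductive Gen
  | p
  | q
  | r
  | s
  deriving DecidableEq

/-- the list of generators -/
def gens : List Gen := [Gen.p, Gen.q, Gen.r, Gen.s]

theorem mem_gens (x : Gen) : x ∈ gens := by cases x <;> decide

/-- the relators `x * x` -/
def sqE : List (WE Gen) := gens.map fun x => WE.mul (WE.of x) (WE.of x)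

/-- the other relators -/
def restE : List (WE Gen) := [
  (WE.pow (WE.mul (WE.of Gen.p) (WE.of Gen.r)) 8),
  (WE.pow (WE.mul (WE.of Gen.q) (WE.of Gen.r)) 3),
  (WE.mul (WE.mul (WE.mul (WE.mul (WE.mul (WE.mul (WE.mul (WE.mul (WE.mul (WE.of Gen.p) (WE.of Gen.q)) (WE.of Gen.p)) (WE.of Gen.q)) (WE.of Gen.p)) (WE.of Gen.r)) (WE.of Gen.q)) (WE.of Gen.r)) (WE.of Gen.q)) (WE.of Gen.r)),
  (WE.mul (WE.mul (WE.mul (WE.mul (WE.mul (WE.mul (WE.mul (WE.mul (WE.mul (WE.mul (WE.mul (WE.mul (WE.mul (WE.mul (WE.mul (WE.mul (WE.mul (WE.of Gen.p) (WE.of Gen.q)) (WE.of Gen.p)) (WE.of Gen.r)) (WE.of Gen.p)) (WE.of Gen.q)) (WE.of Gen.r)) (WE.of Gen.p)) (WE.of Gen.r)) (WE.of Gen.q)) (WE.of Gen.p)) (WE.of Gen.r)) (WE.of Gen.p)) (WE.of Gen.q)) (WE.of Gen.p)) (WE.of Gen.r)) (WE.of Gen.p)) (WE.of Gen.r)),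
  (WE.mul (WE.mul (WE.mul (WE.mul (WE.mul (WE.mul (WE.mul (WE.mul (WE.mul (WE.mul (WE.mul (WE.mul (WE.mul (WE.mul (WE.mul (WE.mul (WE.mul (WE.mul (WE.of Gen.p) (WE.of Gen.q)) (WE.of Gen.p)) (WE.of Gen.r)) (WE.of Gen.p)) (WE.of Gen.q)) (WE.of Gen.r)) (WE.of Gen.s)) (WE.of Gen.p)) (WE.of Gen.r)) (WE.of Gen.p)) (WE.of Gen.s)) (WE.of Gen.r)) (WE.of Gen.q)) (WE.of Gen.p)) (WE.of Gen.r)) (WE.of Gen.p)) (WE.of Gen.s)) (WE.of Gen.r)),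
  (WE.mul (WE.mul (WE.mul (WE.mul (WE.mul (WE.mul (WE.mul (WE.mul (WE.mul (WE.mul (WE.mul (WE.mul (WE.mul (WE.mul (WE.mul (WE.mul (WE.mul (WE.mul (WE.mul (WE.mul (WE.mul (WE.of Gen.p) (WE.of Gen.q)) (WE.of Gen.r)) (WE.of Gen.q)) (WE.of Gen.p)) (WE.of Gen.r)) (WE.of Gen.p)) (WE.of Gen.r)) (WE.of Gen.s)) (WE.of Gen.p)) (WE.of Gen.r)) (WE.of Gen.p)) (WE.of Gen.r)) (WE.of Gen.q)) (WE.of Gen.s)) (WE.of Gen.p)) (WE.of Gen.s)) (WE.of Gen.p)) (WE.of Gen.r)) (WE.of Gen.p)) (WE.of Gen.s)) (WE.of Gen.r)),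
  (WE.mul (WE.mul (WE.mul (WE.mul (WE.mul (WE.mul (WE.mul (WE.mul (WE.mul (WE.mul (WE.mul (WE.mul (WE.mul (WE.mul (WE.mul (WE.mul (WE.mul (WE.mul (WE.mul (WE.mul (WE.mul (WE.of Gen.p) (WE.of Gen.q)) (WE.of Gen.r)) (WE.of Gen.q)) (WE.of Gen.r)) (WE.of Gen.q)) (WE.of Gen.p)) (WE.of Gen.r)) (WE.of Gen.p)) (WE.of Gen.r)) (WE.of Gen.p)) (WE.of Gen.r)) (WE.of Gen.p)) (WE.of Gen.s)) (WE.of Gen.r)) (WE.of Gen.s)) (WE.of Gen.p)) (WE.of Gen.r)) (WE.of Gen.p)) (WE.of Gen.r)) (WE.of Gen.p)) (WE.of Gen.r)),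
  (WE.mul (WE.mul (WE.mul (WE.mul (WE.mul (WE.mul (WE.mul (WE.mul (WE.mul (WE.mul (WE.mul (WE.mul (WE.mul (WE.mul (WE.mul (WE.mul (WE.mul (WE.mul (WE.mul (WE.mul (WE.mul (WE.mul (WE.of Gen.p) (WE.of Gen.r)) (WE.of Gen.p)) (WE.of Gen.r)) (WE.of Gen.p)) (WE.of Gen.r)) (WE.of Gen.p)) (WE.of Gen.r)) (WE.of Gen.s)) (WE.of Gen.p)) (WE.of Gen.r)) (WE.of Gen.p)) (WE.of Gen.r)) (WE.of Gen.p)) (WE.of Gen.s)) (WE.of Gen.p)) (WE.of Gen.s)) (WE.of Gen.p)) (WE.of Gen.r)) (WE.of Gen.p)) (WE.of Gen.r)) (WE.of Gen.p)) (WE.of Gen.s))]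

/-- all relators, as expressions -/
def relE : List (WE Gen) := sqE ++ restE

/-- the subgroup generators, as expressions -/
def subE : List (WE Gen) := [(WE.of Gen.p), (WE.of Gen.q), (WE.of Gen.r)]

/-- the relators -/
abbrev rels : Set (FreeGroup Gen) := {r | ∃ e ∈ relE, r = e.evalF}

/-- the subgroup generators -/
abbrev subS : Set (FreeGroup Gen) := {s | ∃ e ∈ subE, s = e.evalF}

theorem hinv : ∀ x, pval rels x * pval rels x = 1 := by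
  intro x
  have h : (WE.mul (WE.of x) (WE.of x)).evalF ∈ rels :=
    ⟨_, List.mem_append_left _ (List.mem_map_of_mem (mem_gens x)), rfl⟩
  have h2 := PresentedGroup.one_of_mem h
  simpa [WE.evalF, pval, PresentedGroup.of] using h2

end Cfsg.Agent.Lib.Helper56.L37Q
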