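import Cfsg.Agent.Lib.Helper28.TCCheck
import Cfsg.Agent.Lib.Helper56.L37Q.Pres

set_option autoImplicit false
set_option linter.unusedVariables false

namespace Cfsg.Agent.Lib.Helper56.L37Q

open Cfsg.Agent.Lib.Helper28.TC

noncomputable section

def hotA_c0 : ℕ := 0xafe700000000000000000000000000000000000000000000000000000000000000000000000000000000000000000000803800007f3c7ec0000082bc00007cc3823d81bc813b833f7e400000000080bd00000000000000000000000000000000000000000000000000005525548e542300000000518e532952a80000000053a300000000522439020000000000003501348134013381330332832e072d8632133192311130902f8e2b812b0236833806378e3883300600002f012e822a832d072c862982370600002c022a03000000000000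
def hotA : ℕ := hotA_c0
def coldA_c0 : ℕ := 0xca26230001952000000000000000000000000000000000000000000000000000000000000000000000000000000000000000000000000000000000000000000000000000000000000000000000000000000000000000000000000000000000000000000000000000000000000000000000000000000000000000000000000000000000000000000000000000000000000000000000000000000000006e2623000142200000000000000001110000fd20001110000fd100000000000000000dda220270000000000000000014568142700001050000f120001050000f110001050000f1000012d0000ed30000e18610233000000000000000000000000000000dd000141300000000000000000000000000000000000000000000000000000000000000000000000000000000000000000000000000000000000000000000000000000000000000000000000000000000000000000000000000000890000a520000890000a510000890000a50000000000000000000000000001a262300009a200008d000099100008d00009900000000000000000000000000000009900008d3000000000000000000000000000000350000b9200000900003d000000000000000000000000000000000000000000000100003120000010000311000001000031000000500002d300000500002d100000500002d0000009000029300000900002920000190000252000019000025100001900002500000150000213000015000021000000500001d300000500001d204262300001a2000015000019100001500001900000190000153000021000015100000000000000000050000113000005000011200000500001d100000900000d300000900000d20000060e262320000090000492000000000000000000d000009100000500001d0000000000000000000000000000000000000000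
def coldA : ℕ := coldA_c0
def treeT_c0 : ℕ := 0x7019373c7a863d8716a78740c398e0c86fe217f01bd79dbb8adda566c1b358d7a82b5234e80a738cf98e64a532419919ca88a54232a008489c17c202a4fd917ef03f54df3a0f9b37ab13c545e280f18376c93b70dd364e96074d13964dc304e17070b1b7541ba82d9306890b04457a00bcf05670aa1c94882a4505269a7309388498914c40262c5214090534648a320118c688101e398d18868a2340218008c00060062c2116100b0cc5064282212188910048462040100187048384418310c200608c286214400a0184048204010330619030401866083204088208408400413000000
def treeT : ℕ := treeT_c0
def rowT_c0 : ℕ := 0x6ad39f365c98f161c17ef5db96ed59b15eb55a94e9519f325438501fbe7af1dba72e1bb66ad182f56a9427488d10d0a08080
def rowT : ℕ := rowT_c0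

end

end Cfsg.Agent.Lib.Helper56.L37Q
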