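import Cfsg.Agent.Lib.Helper28.TCCheck
import Cfsg.Agent.Lib.Helper56.L37Q.Pres

set_option autoImplicit false
set_option linter.unusedVariables false

namespace Cfsg.Agent.Lib.Helper56.L37Q

open Cfsg.Agent.Lib.Helper28.TC

noncomputable section

def hotE0_c0 : ℕ := 0xb2e5b668ae64b5eab064aae2b26bade9a560aa66a2e1a4e39d5f9bdd9b5e9757945892d490d394db96dc885686d5925a90597ac3000078410000000075400000733f0000000000006f3d000000006bc47a52663b77d074cd72cb5fb96ec75db865c25ab55f3e5d3c56304e2c5a3a00000000492a483155b70000000043a74db63f2548b242a93ba4432d36103eab3b2839a300000000230d000000001f0c00000000000000001a0a000018090000000000000000130735a60000100622a01e9d0c0519981796088412910f8e0b8b0808038203030001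
def hotE0 : ℕ := hotE0_c0
def coldE0_c0 : ℕ := 0x19200019e00018eb814270001a100018600000000000000017e000000a81a2b000000a60613000172a6061b00015a800a1f00014e00014a00016a0000007e061b74202f00000080061b00010a0000000001020000000000000000fe0000000000fa0000000000000000000000f20000000000007a20270000000000ea0000000000000000000000e20000000000de0000000000d20000000000000000be0000ae0000000000000000000000a600202f00000000000000000000009a000000000092000000460a1b00008e00000000003e00000000000044022300000000000000003200000000000000002e00000000000000000000000000002600000000002200000000000000000000000000001a00000000000000001600000000000000001200000000000000000e000000000000000000000000000006000000000233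
def coldE0 : ℕ := coldE0_c0
def tfT0_c0 : ℕ := 0x33db7cb0e35bb4bf1b6bb259a2869aa48e89db69961c81f79d49445639754c2d33503c7246288143101080
def tfT0 : ℕ := tfT0_c0

end

end Cfsg.Agent.Lib.Helper56.L37Q
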