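import Cfsg.Agent.Lib.Helper28.TCCheck
import Cfsg.Agent.Lib.Helper56.L37Q.Pres

set_option autoImplicit false
set_option linter.unusedVariables false

namespace Cfsg.Agent.Lib.Helper56.L37Q

open Cfsg.Agent.Lib.Helper28.TC

noncomputable section

def hotE1_c0 : ℕ := 0xb36bb8e70000ad63b86aab66a8e1a760ace8a45fa865a6e4a3e29ada98d897dc93d49a5e8ed0985d8bd587cd8b57935b844b7bc400008e59000076408756000083d300000000703d000000006d457b526943673c63bf75ce6341643e6fc866c25cb75bb659b158305c3b5b3a4c2b00004a2a0000593957b8000044a7000041254bb549b33d243c28442e000040ac3ca9260e0000240d00000000200c00000000000000001b0a000000000000000000000000140700000000110625a323a11f9e0d081a990a090c8b1392108f05830482050504040081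
def hotE1 : ℕ := hotE1_c0
def coldE1_c0 : ℕ := 0xc8041b00019a00000000018ac00c1fc2041b00018200017e00000000017a00000000000000000000016600015eac041b00014e00000000013e000000000152000132701c2700000000012a00010e0000000000000000000000fe0000000000000000000000000000000000f200000000000082061784041f6c06170000ee0000fa0000006a061770041b0000005e081b0000da0000d60000c20000be00000068041b0000aa0000000000a600000000000000000000000000009a00000000009200000000000000008e46041f00000000000000000000000000003600000000003200000000000000002e00000000000000000000000000002600000000000000000000000000000000000000001a00000000000000001600000000000000000000001e00000002061702081b00000000000000000a000006000000000000000237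
def coldE1 : ℕ := coldE1_c0
def tfT1_c0 : ℕ := 0x38d71df4beedadcf2c289aa8ac7eb8de96975c9e48606d865a5d55903cd3144ca4911ce1882c91050c1080
def tfT1 : ℕ := tfT1_c0

end

end Cfsg.Agent.Lib.Helper56.L37Q
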