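import Cfsg.Agent.Lib.Helper28.TCCheck
import Cfsg.Agent.Lib.Helper56.L37Q.Pres

set_option autoImplicit false
set_option linter.unusedVariables false

namespace Cfsg.Agent.Lib.Helper56.L37Q

open Cfsg.Agent.Lib.Helper28.TC

noncomputable section

def hotE2_c0 : ℕ := 0xb468b6eaaf66b3ebb0e6aee9a9e2a7e4a5e3a965a1de9f5c9cdaa26199db9ee0995d9c5f8fd58d538acd89508f59854b8dd87c527dd188d6774000008a57000084d40000713d0000000000006cbc6b3e68bb67c262ba76cf60b96ac470c96c4568436241603f58b856b74fb14d2b4b2a00000000503646a845a70000000042294cb54ab441ac4630452f00002923270e28a5250d000000000000210f000000001d0b1c0a0000000000000000000016081507000000000000209e26a424a20e051c9b1b9a09841594149306830d8c0909060602820101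
def hotE2 : ℕ := hotE2_c0
def coldE2_c0 : ℕ := 0x19ec8102b000196ae121f0001a1c4081f000186be0417be0413c004179e0e2300016e00016600018200016a000000ae0417000000000152700e2300013200013e9e041700012a00015e50121f741e2b7e081f0000fe0000000000000000000000000000000000f20000000000000000000000ee0000f60000ea5e081f0000e60000000000e27a26230000000000000000000000000000005e04175e04136a2c270000aa0000a60000000000000000d600009e00009a0000000000000000a20a0e1f00000048041700000000000000000000008a000036001a2300003200000000000000000000003a00000000000000002a00002600000000000000000000000000000000001e00001a00000000000000000016041700000000000000001200000000000000000e00000000000000000a000000000000000000001e2b00023b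
def coldE2 : ℕ := coldE2_c0
def tfT2_c0 : ℕ := 0x36df8d35c32c73b2aa2fa6eaed8e179f9dd9a092589751355271665b69845034a3c824e2cc1441c6083040
def tfT2 : ℕ := tfT2_c0

end

end Cfsg.Agent.Lib.Helper56.L37Q
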