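import Cfsg.Agent.Lib.Helper28.TCCheck
import Cfsg.Agent.Lib.Helper56.L37Q.Pres

set_option autoImplicit false
set_option linter.unusedVariables false

namespace Cfsg.Agent.Lib.Helper56.L37Q

open Cfsg.Agent.Lib.Helper28.TC

noncomputable section

def hotE3_c0 : ℕ := 0xb76bb1e40000b7e8ac62b4e5b566b16aa663abe7a15ca05e9dda9fe0a35da0e1965b9e5f95d48ccd91d389d6864b955991577fd279c278d0000000008c58743f85d5723e0000000000006e3c00006a3b7d3e7951653a61b973cc71ca5eb86dc669c464c161405e3d57374f3050ac00000000000047a84eb600000000000051353fa93e24402b47313aa30000280e3daa3a27000000000000220c000000001e0b000000000000000019090000170800000000000000001206000027a50f05219f1d9c0b0418971695078311900e8d0a8a070702010182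
def hotE3 : ℕ := hotE3_c0
def coldE3_c0 : ℕ := 0xd2222f00018e000000ce2e2f000186c81e2700019600000080122700000000016e000176ac1823981023b42a27000000781e2700017a00014e00013200014a48122700012a942423461227a224230001065022270000000000000000000000fa0000000000f60000000000000000000000ee0000000000ea0001250000000000e60000e20000000000000000de0000000000004e10230000000000005412270000be6a1c2b00000000000000000000009e0a18230000000000000000000000d2001e2700008e0000aa00000000008a00000000003600000000000000000000000000000000002e00000000000000002a00000000000000000000000000002200000000001e00000000000000000000000000001600000000000000001200000000000000000e00000000000000000a000000000000000000000000000002000000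
def coldE3 : ℕ := coldE3_c0
def tfT3_c0 : ℕ := 0x38cb6c33d37c75aaca2eaefa6d89e8647679607e68d45d34956d161c69959030b20f38928d105187083001
def tfT3 : ℕ := tfT3_c0

end

end Cfsg.Agent.Lib.Helper56.L37Q
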