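import Cfsg.Agent.Lib.Helper56.L37Q.DataE0
import Cfsg.Agent.Lib.Helper56.L37Q.DataE1
import Cfsg.Agent.Lib.Helper56.L37Q.DataE2
import Cfsg.Agent.Lib.Helper56.L37Q.DataE3
import Cfsg.Agent.Lib.Helper56.L37Q.DataA

set_option autoImplicit false
set_option linter.unusedVariables false

namespace Cfsg.Agent.Lib.Helper56.L37Q

open Cfsg.Agent.Lib.Helper28.TC

noncomputable section

/-- decode a generator -/
def genOf (c : ℕ) : Gen := Nat.rec (motive := fun _ => Gen) Gen.p (fun c _ => Nat.rec (motive := fun _ => Gen) Gen.q (fun c _ => Nat.rec (motive := fun _ => Gen) Gen.r (fun c _ => Gen.s) c) c) c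

def hotE (x : Gen) : ℕ := Gen.rec (motive := fun _ => ℕ) hotE0 hotE1 hotE2 hotE3 x
def coldE (x : Gen) : ℕ := Gen.rec (motive := fun _ => ℕ) coldE0 coldE1 coldE2 coldE3 x
def tfT (x : Gen) : ℕ := Gen.rec (motive := fun _ => ℕ) tfT0 tfT1 tfT2 tfT3 x

def entH (x : Gen) (u : ℕ) : ℕ := look (hotE x) 16 65535 u
def jEc (x : Gen) (u : ℕ) : ℕ := look (coldE x) 24 16777215 u
def alH (k : ℕ) : ℕ := look hotA 16 65535 k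
def jAc (k : ℕ) : ℕ := look coldA 52 4503599627370495 k
def treeE (k : ℕ) : ℕ := look treeT 17 131071 k
/-- the final coset table -/
def tf (x : Gen) (i : ℕ) : ℕ := look (tfT x) 6 63 i
/-- the final coset number of a row -/
def fin (k : ℕ) : ℕ := Nat.shiftRight (treeE k) 11
/-- the designated row of a final coset -/
def rowOf (i : ℕ) : ℕ := look rowT 7 127 i

/-- the cycle words with their reverses and lengths -/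
def cycs : List (List Gen × List Gen × ℕ) := [
  ([Gen.p, Gen.p], [Gen.p, Gen.p], 2),
  ([Gen.q, Gen.q], [Gen.q, Gen.q], 2),
  ([Gen.r, Gen.r], [Gen.r, Gen.r], 2),
  ([Gen.s, Gen.s], [Gen.s, Gen.s], 2),
  ([Gen.p, Gen.r, Gen.p, Gen.r, Gen.p, Gen.r, Gen.p, Gen.r, Gen.p, Gen.r, Gen.p, Gen.r, Gen.p, Gen.r, Gen.p, Gen.r], [Gen.r, Gen.p, Gen.r, Gen.p, Gen.r, Gen.p, Gen.r, Gen.p, Gen.r, Gen.p, Gen.r, Gen.p, Gen.r, Gen.p, Gen.r, Gen.p], 16),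
  ([Gen.q, Gen.r, Gen.q, Gen.r, Gen.q, Gen.r], [Gen.r, Gen.q, Gen.r, Gen.q, Gen.r, Gen.q], 6),
  ([Gen.p, Gen.q, Gen.p, Gen.q, Gen.p, Gen.r, Gen.q, Gen.r, Gen.q, Gen.r], [Gen.r, Gen.q, Gen.r, Gen.q, Gen.r, Gen.p, Gen.q, Gen.p, Gen.q, Gen.p], 10),
  ([Gen.p, Gen.q, Gen.p, Gen.r, Gen.p, Gen.q, Gen.r, Gen.p, Gen.r, Gen.q, Gen.p, Gen.r, Gen.p, Gen.q, Gen.p, Gen.r, Gen.p, Gen.r], [Gen.r, Gen.p, Gen.r, Gen.p, Gen.q, Gen.p, Gen.r, Gen.p, Gen.q, Gen.r, Gen.p, Gen.r, Gen.q, Gen.p, Gen.r, Gen.p, Gen.q, Gen.p], 18),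
  ([Gen.p, Gen.q, Gen.p, Gen.r, Gen.p, Gen.q, Gen.r, Gen.s, Gen.p, Gen.r, Gen.p, Gen.s, Gen.r, Gen.q, Gen.p, Gen.r, Gen.p, Gen.s, Gen.r], [Gen.r, Gen.s, Gen.p, Gen.r, Gen.p, Gen.q, Gen.r, Gen.s, Gen.p, Gen.r, Gen.p, Gen.s, Gen.r, Gen.q, Gen.p, Gen.r, Gen.p, Gen.q, Gen.p], 19),
  ([Gen.p, Gen.q, Gen.r, Gen.q, Gen.p, Gen.r, Gen.p, Gen.r, Gen.s, Gen.p, Gen.r, Gen.p, Gen.r, Gen.q, Gen.s, Gen.p, Gen.s, Gen.p, Gen.r, Gen.p, Gen.s, Gen.r], [Gen.r, Gen.s, Gen.p, Gen.r, Gen.p, Gen.s, Gen.p, Gen.s, Gen.q, Gen.r, Gen.p, Gen.r, Gen.p, Gen.s, Gen.r, Gen.p, Gen.r, Gen.p, Gen.q, Gen.r, Gen.q, Gen.p], 22),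
  ([Gen.p, Gen.q, Gen.r, Gen.q, Gen.r, Gen.q, Gen.p, Gen.r, Gen.p, Gen.r, Gen.p, Gen.r, Gen.p, Gen.s, Gen.r, Gen.s, Gen.p, Gen.r, Gen.p, Gen.r, Gen.p, Gen.r], [Gen.r, Gen.p, Gen.r, Gen.p, Gen.r, Gen.p, Gen.s, Gen.r, Gen.s, Gen.p, Gen.r, Gen.p, Gen.r, Gen.p, Gen.r, Gen.p, Gen.q, Gen.r, Gen.q, Gen.r, Gen.q, Gen.p], 22),
  ([Gen.p, Gen.r, Gen.p, Gen.r, Gen.p, Gen.r, Gen.p, Gen.r, Gen.s, Gen.p, Gen.r, Gen.p, Gen.r, Gen.p, Gen.s, Gen.p, Gen.s, Gen.p, Gen.r, Gen.p, Gen.r, Gen.p, Gen.s], [Gen.s, Gen.p, Gen.r, Gen.p, Gen.r, Gen.p, Gen.s, Gen.p, Gen.s, Gen.p, Gen.r, Gen.p, Gen.r, Gen.p, Gen.s, Gen.r, Gen.p, Gen.r, Gen.p, Gen.r, Gen.p, Gen.r, Gen.p], 23),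
  ([Gen.p], [Gen.p], 1),
  ([Gen.q], [Gen.q], 1),
  ([Gen.r], [Gen.r], 1)]

/-- the relator words -/
def relWords : List (List Gen) := [
  [Gen.p, Gen.p],
  [Gen.q, Gen.q],
  [Gen.r, Gen.r],
  [Gen.s, Gen.s],
  [Gen.p, Gen.r, Gen.p, Gen.r, Gen.p, Gen.r, Gen.p, Gen.r, Gen.p, Gen.r, Gen.p, Gen.r, Gen.p, Gen.r, Gen.p, Gen.r],
  [Gen.q, Gen.r, Gen.q, Gen.r, Gen.q, Gen.r],
  [Gen.p, Gen.q, Gen.p, Gen.q, Gen.p, Gen.r, Gen.q, Gen.r, Gen.q, Gen.r],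
  [Gen.p, Gen.q, Gen.p, Gen.r, Gen.p, Gen.q, Gen.r, Gen.p, Gen.r, Gen.q, Gen.p, Gen.r, Gen.p, Gen.q, Gen.p, Gen.r, Gen.p, Gen.r],
  [Gen.p, Gen.q, Gen.p, Gen.r, Gen.p, Gen.q, Gen.r, Gen.s, Gen.p, Gen.r, Gen.p, Gen.s, Gen.r, Gen.q, Gen.p, Gen.r, Gen.p, Gen.s, Gen.r],
  [Gen.p, Gen.q, Gen.r, Gen.q, Gen.p, Gen.r, Gen.p, Gen.r, Gen.s, Gen.p, Gen.r, Gen.p, Gen.r, Gen.q, Gen.s, Gen.p, Gen.s, Gen.p, Gen.r, Gen.p, Gen.s, Gen.r],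
  [Gen.p, Gen.q, Gen.r, Gen.q, Gen.r, Gen.q, Gen.p, Gen.r, Gen.p, Gen.r, Gen.p, Gen.r, Gen.p, Gen.s, Gen.r, Gen.s, Gen.p, Gen.r, Gen.p, Gen.r, Gen.p, Gen.r],
  [Gen.p, Gen.r, Gen.p, Gen.r, Gen.p, Gen.r, Gen.p, Gen.r, Gen.s, Gen.p, Gen.r, Gen.p, Gen.r, Gen.p, Gen.s, Gen.p, Gen.s, Gen.p, Gen.r, Gen.p, Gen.r, Gen.p, Gen.s]]

/-- the subgroup generator words -/
def subWords : List (List Gen) := [
  [Gen.p],
  [Gen.q],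
  [Gen.r]]

/-- the certificate -/
def C : Cert Gen where
  par := fun k => Nat.land (treeE k) 127
  gn := fun k => genOf (Nat.land (Nat.shiftRight (treeE k) 7) 15)
  ent := fun x u => Nat.land (entH x u) 127
  rkE := fun x u => Nat.shiftRight (entH x u) 7
  jEk := fun x u => Nat.land (jEc x u) 3
  jEa := fun x u => Nat.land (Nat.shiftRight (jEc x u) 2) 127
  jEp := fun x u => Nat.land (Nat.shiftRight (jEc x u) 9) 255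
  jEz := fun x u => Nat.shiftRight (jEc x u) 17
  al := fun k => Nat.land (alH k) 127
  rkA := fun k => Nat.shiftRight (alH k) 7
  jAx := fun k => genOf (Nat.land (jAc k) 15)
  jA1k := fun k => Nat.land (Nat.shiftRight (jAc k) 4) 3
  jA1a := fun k => Nat.land (Nat.shiftRight (jAc k) 6) 127
  jA1p := fun k => Nat.land (Nat.shiftRight (jAc k) 13) 255
  jA1z := fun k => Nat.land (Nat.shiftRight (jAc k) 21) 127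
  jA2k := fun k => Nat.land (Nat.shiftRight (jAc k) 28) 3
  jA2a := fun k => Nat.land (Nat.shiftRight (jAc k) 30) 127
  jA2p := fun k => Nat.land (Nat.shiftRight (jAc k) 37) 255
  jA2z := fun k => Nat.land (Nat.shiftRight (jAc k) 45) 127
  cycW := fun ci => (nthD cycs ci ([], [], 0)).1
  cycR := fun ci => (nthD cycs ci ([], [], 0)).2.1
  cycL := fun ci => (nthD cycs ci ([], [], 0)).2.2
  cycA := fun ci => Nat.ble 12 ci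
  fuel := 3

def NN : ℕ := 107
def nn : ℕ := 57
def RR : ℕ := 371

end

end Cfsg.Agent.Lib.Helper56.L37Q
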